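import Groth.Agent.KBlow28.Supp
import Groth.Agent.KPerfPn28.Local
import Groth.Agent.SDiv28.BlowUp
import Groth.Agent.KLoc28.Restrict
import Groth.Agent.Dual22Lib.PPFlat

/-!
# `K₀` of perfect objects of a blowing up: pullbacks and objects on the exceptional divisor generate
-/

set_option autoImplicit false
set_option linter.style.haveILetI false
set_option backward.isDefEq.respectTransparency false
set_option maxHeartbeats 800000

universe u

open CategoryTheory CategoryTheory.Limits CategoryTheory.Pretriangulated AlgebraicGeometry TopologicalSpace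
open Groth.Agent.Coherent Groth.Agent.DCat Groth.Agent.Dual22Lib Groth.Agent.Dual22Lib.BCSquare

attribute [local instance] HasDerivedCategory.standard
attribute [-instance] Int.instConditionallyCompleteLinearOrder

noncomputable section

namespace Groth.Agent.KBlow28

/-- The unit along an isomorphism is invertible. -/
theorem isIso_unit_iso {A B : Scheme.{u}} (q : A ⟶ B) [IsIso q] [DCoh.HasLpull q] [DCoh.HasRpush q]
    (adj : DCoh.Lpull q ⊣ DCoh.Rpush q) (M : DCoh.D B) : IsIso (adj.unit.app M) := by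
  haveI := BCSquare.isIso_counit q adj
  haveI : IsIso ((DCoh.Lpull q).map (adj.unit.app M)) := by
    refine @IsIso.of_isIso_comp_right _ _ _ _ _ _ (adj.counit.app ((DCoh.Lpull q).obj M)) inferInstance ?_
    rw [adj.left_triangle_components M]; exact IsIso.id _
  obtain ⟨β⟩ := nonempty_Lpull_rd q
  haveI : IsIso ((PerfLocal.rd q).map (adj.unit.app M)) := (NatIso.isIso_map_iff β _).1 ‹_›
  exact ProjPerf.isIso_of_locally _ fun x => ⟨⊤, trivial,
    TenLocal.isIso_rd_of_isIso_rd q ((⊤ : B.Opens).ι ≫ inv q) (⊤ : B.Opens).ι (by simp) _⟩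

variable {X X' : Scheme.{u}} {f : X' ⟶ X}

/-- The cone of the counit is supported off an open over which `f` is invertible. -/
theorem isZero_rd_cone (U : X.Opens) [IsIso (f ∣_ U)] [DCoh.HasLpull f] [DCoh.HasRpush f]
    (adj : DCoh.Lpull f ⊣ DCoh.Rpush f) {E : DCoh.D X'} (hL : DCoh.IsQCohD ((DCoh.Lpull f).obj ((DCoh.Rpush f).obj E)))
    {C : DCoh.D X'} (hC : DCoh.IsQCohD C) {v : E ⟶ C} {w : C ⟶ ((DCoh.Lpull f).obj ((DCoh.Rpush f).obj E))⟦(1 : ℤ)⟧}
    (hT : Triangle.mk (adj.counit.app E) v w ∈ distTriang (DCoh.D X')) :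
    IsZero ((PerfLocal.rd (f ⁻¹ᵁ U).ι).obj C) := by
  let q := f ∣_ U
  let jU := U.ι
  let ψ := (f ⁻¹ᵁ U).ι
  have hsq : IsPullback ψ q f jU := (isPullback_morphismRestrict f U).flip
  haveI := hasLpull jU
  haveI := hasLpull ψ
  haveI := hasLpull q
  haveI := hasRpush jU
  haveI := hasRpush ψ
  haveI := hasRpush q
  haveI := hasLpull (q ≫ jU)
  haveI := hasLpull (ψ ≫ f)
  obtain ⟨aj⟩ := nonempty_pullPushAdj jU
  obtain ⟨aq⟩ := nonempty_pullPushAdj ψ
  obtain ⟨ap⟩ := nonempty_pullPushAdj q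
  obtain ⟨c₁⟩ := nonempty_LpullComp q jU
  obtain ⟨c₂⟩ := nonempty_LpullComp ψ f
  have hc : ∀ (g : ((f ⁻¹ᵁ U : X'.Opens) : Scheme.{u}) ⟶ X) [DCoh.HasLpull g], g = ψ ≫ f →
      Nonempty (DCoh.Lpull g ≅ DCoh.Lpull (ψ ≫ f)) := fun g _ h => by
    subst h; exact ⟨Iso.refl _⟩
  obtain ⟨c₃⟩ := hc (q ≫ jU) hsq.w.symm
  haveI h1 : IsIso ((DCoh.Lpull jU).map (adj.unit.app ((DCoh.Rpush f).obj E))) :=
    KPerfPn28.isIso_map_unit adj aj aq ap (c₁ ≪≫ c₃ ≪≫ c₂.symm) _ (fun e =>
      good_of_open hsq inferInstance inferInstance inferInstance inferInstance inferInstance inferInstance aj aq e _ hL)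
      (isIso_unit_iso q ap _)
  haveI h2 : IsIso ((DCoh.Lpull jU).map ((DCoh.Rpush f).map (adj.counit.app E))) := by
    have h := congrArg (DCoh.Lpull jU).map (adj.right_triangle_components E)
    rw [Functor.map_comp, CategoryTheory.Functor.map_id] at h
    refine @IsIso.of_isIso_comp_left _ _ _ _ _
      ((DCoh.Lpull jU).map (adj.unit.app ((DCoh.Rpush f).obj E))) _ h1 ?_
    rw [h]; exact IsIso.id _
  obtain ⟨_, _⟩ := DCat.exists_commShift_Rpush f
  obtain ⟨_, _⟩ := PullPerf.exists_commShift_Lpull jU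
  have hz : IsZero ((DCoh.Lpull jU).obj ((DCoh.Rpush f).obj C)) :=
    (Triangle.isZero₃_iff_isIso₁ _ ((DCoh.Lpull jU).map_distinguished _ ((DCoh.Rpush f).map_distinguished _ hT))).2 h2
  obtain ⟨b⟩ := KPerfPn28.nonempty_Lpull_Rpush hsq hC
  obtain ⟨_, _⟩ := PullPerf.exists_commShift_Lpull q
  have hz' : IsZero ((DCoh.Lpull q).obj ((DCoh.Rpush q).obj ((DCoh.Lpull ψ).obj C))) :=
    (DCoh.Lpull q).map_isZero (hz.of_iso b.symm)
  haveI := BCSquare.isIso_counit q ap
  obtain ⟨β⟩ := nonempty_Lpull_rd ψ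
  exact (hz'.of_iso (asIso (ap.counit.app _)).symm).of_iso (β.app C).symm

/-- Classes of pullbacks and of objects on the exceptional divisor generate. -/
theorem exists_decomp [IsNoetherian X] [IsNoetherian X'] [IsProper f] (hpf : MoreMor.IsPerfectMor f) (U : X.Opens)
    [IsIso (f ∣_ U)] {Z : Scheme.{u}} (j : Z ⟶ X') [IsClosedImmersion j]
    (hrange : ((f ⁻¹ᵁ U : X'.Opens) : Set X')ᶜ ⊆ Set.range j)
    (hreg : ∀ z : Z, IsRegularLocalRing (Z.presheaf.stalk z))
    [PreservesFiniteLimits (Scheme.Modules.pushforward j)] [PreservesFiniteColimits (Scheme.Modules.pushforward j)]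
    (hj : ∀ K : DCoh.D Z, DCoh.IsPerfect K → DCoh.IsPerfect ((Scheme.Modules.pushforward j).mapDerivedCategory.obj K))
    [DCoh.HasLpull f] [(DCoh.Lpull f).CommShift ℤ] [(DCoh.Lpull f).IsTriangulated]
    (hf : ∀ K : DCoh.D X, DCoh.IsPerfect K → DCoh.IsPerfect ((DCoh.Lpull f).obj K))
    (y : SGA6.Kperf X') :
    ∃ a b, SGA6.mapTr ((Scheme.Modules.pushforward j).mapDerivedCategory) (SGA6.perfP Z) (SGA6.perfP X') hj a +
      SGA6.mapTr (DCoh.Lpull f) (SGA6.perfP X) (SGA6.perfP X') hf b = y := by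
  let G₁ := (SGA6.mapTr ((Scheme.Modules.pushforward j).mapDerivedCategory) (SGA6.perfP Z) (SGA6.perfP X') hj).range
  let G₂ := (SGA6.mapTr (DCoh.Lpull f) (SGA6.perfP X) (SGA6.perfP X') hf).range
  suffices h : y ∈ G₁ ⊔ G₂ by
    obtain ⟨_, ⟨a, rfl⟩, _, ⟨b, rfl⟩, h⟩ := AddSubgroup.mem_sup.1 h
    exact ⟨a, b, h⟩
  refine KPerfPn28.mem_of_classes (P := SGA6.perfP X') _ (fun E hE => ?_) y
  haveI := DCat.hasRpush f
  obtain ⟨adj⟩ := nonempty_pullPushAdj f
  obtain ⟨-, a, b, ha, hb⟩ := KZeroLib.hd_of_perfect hE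
  have hR : DCoh.IsPerfect ((DCoh.Rpush f).obj E) := PPFlat.pp_perfect f hpf E hE
  have hL := hf _ hR
  obtain ⟨C, v, w, hT⟩ := distinguished_cocone_triangle (adj.counit.app E)
  have hCp : DCoh.IsPerfect C := (PCTriangle.perfect_two_out_of_three hT).1 hL hE
  have hC : KZero.clTr (SGA6.perfP X') C ∈ G₁ := by
    refine supported_mem j hreg hj hCp fun i => Set.Subset.trans ?_ hrange
    have hz := isZero_rd_cone U adj (SumAdj.isQCohD_perfect' hL) (SumAdj.isQCohD_perfect' hCp) hT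
    refine KLoc28.support_off_of_isZero ?_
    exact ((DerivedCategory.homologyFunctor _ i).map_isZero hz).of_iso
      (SuppOpen.hdMapIso (Scheme.Modules.restrictFunctor (f ⁻¹ᵁ U).ι) C i).symm
  have e := KPerfPn28.cl_rel (P := SGA6.perfP X') hT hL hE hCp
  change KZero.clTr (SGA6.perfP X') E = KZero.clTr (SGA6.perfP X') ((DCoh.Lpull f).obj ((DCoh.Rpush f).obj E)) +
    KZero.clTr (SGA6.perfP X') C at e
  rw [e]
  refine AddSubgroup.add_mem _ (AddSubgroup.mem_sup_right ⟨KZero.clTr (SGA6.perfP X) ((DCoh.Rpush f).obj E), ?_⟩)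
    (AddSubgroup.mem_sup_left hC)
  exact KPerfPn28.mapTr_cl _ hf hR

end Groth.Agent.KBlow28
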