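import Groth.Agent.BlowUpCoh.Regular
import Groth.Agent.BlowUpCoh.EulerPush
import Groth.Agent.DQCoh.PerfectClass
import Groth.Agent.DQCoh.ResPropD17
import Groth.Agent.DQCoh.AcyclicPush
import Groth.Agent.DQCoh.BettiRank
import Groth.Agent.DCat.PCTriangle
import Groth.Agent.KPerfPn28.Perfect
import Groth.Agent.CAlgH3.LocFreeFactor
import Groth.Agent.Desc19b.ResProp
import Groth.Agent.CAlgSmall.QAmple
import Groth.Agent.KZeroLib.RegularPerfect

/-!
# Generation of `K₀` of perfect objects by bundles, and the blowing up identity `f_* f^* = id`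
-/

set_option autoImplicit false
set_option linter.style.haveILetI false
set_option backward.isDefEq.respectTransparency false
set_option maxHeartbeats 800000

universe u

open CategoryTheory CategoryTheory.Limits CategoryTheory.Pretriangulated AlgebraicGeometry TopologicalSpace
open Groth.Agent.Coherent Groth.Agent.DCat Groth.Agent.Dual22Lib
open scoped ZeroObject

attribute [local instance] HasDerivedCategory.standard
attribute [-instance] Int.instConditionallyCompleteLinearOrder

noncomputable section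

namespace Groth.Agent.KBlow28

variable {X : Scheme.{u}}

theorem cl_iso' {K L : DCoh.D X} (e : K ≅ L) (hK : DCoh.IsPerfect K) :
    KZero.clTr (SGA6.perfP X) K = KZero.clTr (SGA6.perfP X) L :=
  (KPerfPn28.cl_iso (P := SGA6.perfP X) (fun e h => PCTriangle.perfect_iso e h)
    (PerfLift.isPerfect_isZero (isZero_zero _)) e hK).symm

theorem cl_isZero' {K : DCoh.D X} (h : IsZero K) : KZero.clTr (SGA6.perfP X) K = 0 :=
  KPerfPn28.cl_isZero (P := SGA6.perfP X) (fun e h => PCTriangle.perfect_iso e h)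
    (PerfLift.isPerfect_isZero (isZero_zero _)) h

theorem cl_shift_one {K : DCoh.D X} (hK : DCoh.IsPerfect K) :
    KZero.clTr (SGA6.perfP X) (K⟦(1 : ℤ)⟧) = - KZero.clTr (SGA6.perfP X) K := by
  have hT : (contractibleTriangle K).rotate ∈ distTriang (DCoh.D X) :=
    rot_of_distTriang _ (contractible_distinguished K)
  have h0 : DCoh.IsPerfect (0 : DCoh.D X) := PerfLift.isPerfect_isZero (isZero_zero _)
  have := KPerfPn28.cl_rel (P := SGA6.perfP X) hT hK h0 (PCTriangle.perfect_shift hK 1)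
  change KZero.clTr (SGA6.perfP X) (0 : DCoh.D X) = KZero.clTr (SGA6.perfP X) K + KZero.clTr (SGA6.perfP X) (K⟦(1 : ℤ)⟧) at this
  rw [cl_isZero' (isZero_zero _)] at this
  exact eq_neg_of_add_eq_zero_right this.symm

theorem cl_shift_mem (G : AddSubgroup (SGA6.Kperf X)) {K : DCoh.D X} (hK : DCoh.IsPerfect K)
    (h : KZero.clTr (SGA6.perfP X) K ∈ G) (n : ℤ) : KZero.clTr (SGA6.perfP X) (K⟦n⟧) ∈ G := by
  have hp : ∀ m : ℤ, DCoh.IsPerfect (K⟦m⟧) := PCTriangle.perfect_shift hK
  induction n using Int.induction_on with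
  | zero =>
    rw [cl_iso' ((shiftFunctorZero (DCoh.D X) ℤ).app K) (hp 0)]
    exact h
  | succ i ih =>
    rw [cl_iso' ((shiftFunctorAdd' (DCoh.D X) (i : ℤ) 1 _ rfl).app K) (hp _)]
    show KZero.clTr (SGA6.perfP X) ((K⟦(i : ℤ)⟧)⟦(1 : ℤ)⟧) ∈ G
    rw [cl_shift_one (hp _)]
    exact G.neg_mem ih
  | pred i ih =>
    have e := (shiftFunctorAdd' (DCoh.D X) (-(i : ℤ) - 1) 1 (-(i : ℤ)) (by omega)).app K
    rw [cl_iso' e (hp _)] at ih
    change KZero.clTr (SGA6.perfP X) ((K⟦-(i : ℤ) - 1⟧)⟦(1 : ℤ)⟧) ∈ G at ih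
    rw [cl_shift_one (hp _)] at ih
    exact neg_mem_iff.1 ih

/-- Classes of bundles generate `K₀` of perfect objects in the presence of the resolution property. -/
theorem mem_of_bundles [CompactSpace X] [QuasiSeparatedSpace X] (hX : PerfAux.HasResolutionProperty X)
    (G : AddSubgroup (SGA6.Kperf X))
    (h : ∀ E : X.Modules, FlatMod.IsFinLocFree E → KZero.clTr (SGA6.perfP X) (DCoh.inD X E) ∈ G)
    (x : SGA6.Kperf X) : x ∈ G := by
  refine KPerfPn28.mem_of_classes (P := SGA6.perfP X) G (fun K hK => ?_) x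
  obtain ⟨E, hE, ⟨e⟩⟩ := DQCoh.ResPropD17.exists_strictlyPerfect hX hK
  let P : ObjectProperty (DCoh.D X) := fun L => DCoh.IsPerfect L ∧ KZero.clTr (SGA6.perfP X) L ∈ G
  have hP : DQCoh.IsDev P :=
    { iso := fun e hK => ⟨PCTriangle.perfect_iso e hK.1, cl_iso' e hK.1 ▸ hK.2⟩
      zero := fun K hK => ⟨PerfLift.isPerfect_isZero hK, by rw [cl_isZero' hK]; exact G.zero_mem⟩
      shift := fun K n hK => ⟨PCTriangle.perfect_shift hK.1 n, cl_shift_mem G hK.1 hK.2 n⟩
      ext := fun T hT h₁ h₃ => by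
        have h₂ : DCoh.IsPerfect T.obj₂ := (PCTriangle.perfect_two_out_of_three hT).2.1 h₁.1 h₃.1
        exact ⟨h₂, by rw [KPerfPn28.cl_rel (P := SGA6.perfP X) hT h₁.1 h₂ h₃.1]; exact G.add_mem h₁.2 h₃.2⟩ }
  obtain ⟨⟨a, b, hab⟩, hfree⟩ := hE
  have : P (DerivedCategory.Q.obj E) := hP.bounded E hab fun n =>
    ⟨KZeroLib.isPerfect_inD_finLocFree (hfree n), h _ (hfree n)⟩
  rw [← cl_iso' e this.1]
  exact this.2

variable {X' : Scheme.{u}} {I : X.IdealSheafData} (b : X' ⟶ X)

/-- The pullback of a bundle to a blowing up in a regular centre pushes down to the bundle. -/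
theorem nonempty_Rpush_pullback (hb : BlowUp.IsBlowUp b I) (hI : BlowUpCoh.KoszulBasis I 0) [DCoh.HasRpush b]
    (E : X.Modules) (hE : FlatMod.IsFinLocFree E) :
    Nonempty ((DCoh.Rpush b).obj (DCoh.inD X' ((Scheme.Modules.pullback b).obj E)) ≅ DCoh.inD X E) := by
  haveI : IsProper b := BlowUpLib.isProper_of_isBlowUp hb (BlowUpCoh.isFiniteType_of_koszulBasis hI)
  haveI : IsGrothendieckAbelian.{u} X'.Modules := DCat.schemeModules_isGrothendieckAbelian X'
  haveI : EnoughInjectives X'.Modules := inferInstance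
  haveI : HasInjectiveResolutions X'.Modules := inferInstance
  let O' := Coh.structureModule X'
  let M := (Scheme.Modules.pullback b).obj E
  let eM : CohB1.tensorMod M O' ≅ M := AmpleLib.tensorComm M O' ≪≫ AmpleLib.unitTensorIso M
  haveI : Coh.IsQCoh O' := Coherent.isQCoh_structureModule
  have hM : Coh.IsQCoh M :=
    (CAlgH3.LocFreeFactor.isQCoh_of_finLocFree (DCat.PullPerf.isFinLocFree_pullback b hE))
  have hvan : ∀ i : ℕ, 0 < i → IsZero ((Coh.Rpush b i).obj M) := fun i hi => by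
    refine (BlowUpCoh.isZero_rpush_of_rpushAb b ?_)
    exact IsZero.of_iso (BlowUpCoh.isZero_rpushAb_tensor_pullback b hE O' i
      (BlowUpCoh.isZero_rpushAb hb hI (BlowUpCoh.twistO (I.comap b)) (by simp) i hi))
      ((Coh.RpushAb b i).mapIso ((toAbFunctor X').mapIso eM)).symm
  have hpf : Nonempty ((Scheme.Modules.pushforward b).obj M ≅ E) := by
    obtain ⟨e⟩ := nonempty_projection_formula (f := b) hE O' 0
    haveI := BlowUpCoh.isIso_unitMap hb hI
    let r := (Coh.push b).rightDerivedZeroIsoSelf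
    exact ⟨((Scheme.Modules.pushforward b).mapIso eM).symm ≪≫ (r.app _).symm ≪≫ e.symm ≪≫
      (tensE E).mapIso (r.app O' ≪≫ (asIso (StMod.unitMap b)).symm) ≪≫
      AmpleLib.tensorComm E (Coh.structureModule X) ≪≫ AmpleLib.unitTensorIso E⟩
  obtain ⟨e₀⟩ := hpf
  let F := (HomologicalComplex.single X'.Modules (ComplexShape.up ℤ) 0).obj M
  have hq : ∀ n : ℤ, Coh.IsQCoh (F.X n) := fun n => by
    by_cases hn : n = 0
    · subst hn
      exact isQCoh_of_iso (HomologicalComplex.singleObjXSelf (ComplexShape.up ℤ) 0 M).symm (h := hM)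
    · exact isQCoh_of_isZero (HomologicalComplex.isZero_single_obj_X _ _ _ _ hn)
  haveI := DQCoh.isIso_unit_qcoh b F hq fun n i hi => by
    by_cases hn : n = 0
    · subst hn
      exact (hvan i hi).of_iso ((Coh.Rpush b i).mapIso (HomologicalComplex.singleObjXSelf (ComplexShape.up ℤ) 0 M))
    · exact (Coh.Rpush b i).map_isZero (HomologicalComplex.isZero_single_obj_X _ _ _ _ hn)
  let η := (DCoh.pushKh b).totalRightDerivedUnit DerivedCategory.Qh
    (HomotopyCategory.quasiIso X'.Modules (ComplexShape.up ℤ))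
  exact ⟨(DCoh.Rpush b).mapIso ((DerivedCategory.singleFunctorIsoCompQ X'.Modules 0).app M ≪≫
      (DerivedCategory.quotientCompQhIso _).symm.app F) ≪≫
    (asIso (η.app ((HomotopyCategory.quotient X'.Modules (ComplexShape.up ℤ)).obj F))).symm ≪≫
    DerivedCategory.Qh.mapIso ((((Scheme.Modules.pushforward b).mapHomotopyCategoryFactors (ComplexShape.up ℤ)).app F)) ≪≫
    (DerivedCategory.quotientCompQhIso _).app _ ≪≫
    DerivedCategory.Q.mapIso ((HomologicalComplex.singleMapHomologicalComplex (Scheme.Modules.pushforward b)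
      (ComplexShape.up ℤ) 0).app M) ≪≫
    ((DerivedCategory.singleFunctorIsoCompQ X.Modules 0).app _).symm ≪≫
    (DerivedCategory.singleFunctor X.Modules 0).mapIso e₀⟩

end Groth.Agent.KBlow28
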