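import Groth.Agent.KBlow28.PushPull
import Groth.Agent.KZeroLib.BddDevissage
import Groth.Agent.KTop28.Basic

/-!
# Perfect objects supported on a regular closed subscheme
-/

set_option autoImplicit false
set_option linter.style.haveILetI false
set_option backward.isDefEq.respectTransparency false
set_option maxHeartbeats 800000

universe u

open CategoryTheory CategoryTheory.Limits CategoryTheory.Pretriangulated AlgebraicGeometry TopologicalSpace
open Groth.Agent.Coherent Groth.Agent.DCat

attribute [local instance] HasDerivedCategory.standard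
attribute [-instance] Int.instConditionallyCompleteLinearOrder

noncomputable section

namespace Groth.Agent.KBlow28

variable {X Z : Scheme.{u}} [IsNoetherian X] (j : Z ⟶ X) [IsClosedImmersion j]

/-- Coherent modules supported on a regular closed subscheme are perfect with class in the image. -/
theorem single_mem (hreg : ∀ z : Z, IsRegularLocalRing (Z.presheaf.stalk z))
    [PreservesFiniteLimits (Scheme.Modules.pushforward j)] [PreservesFiniteColimits (Scheme.Modules.pushforward j)]
    (hj : ∀ K : DCoh.D Z, DCoh.IsPerfect K → DCoh.IsPerfect ((Scheme.Modules.pushforward j).mapDerivedCategory.obj K))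
    (F : X.Modules) (hF : Coh.IsCoh F) (hFS : CohB1.support F ⊆ Set.range j) :
    DCoh.IsPerfect (DCoh.inD X F) ∧ KZero.clTr (SGA6.perfP X) (DCoh.inD X F) ∈
      (SGA6.mapTr ((Scheme.Modules.pushforward j).mapDerivedCategory) (SGA6.perfP Z) (SGA6.perfP X) hj).range := by
  haveI : IsLocallyNoetherian Z := LocallyOfFiniteType.isLocallyNoetherian j
  let G := (SGA6.mapTr ((Scheme.Modules.pushforward j).mapDerivedCategory) (SGA6.perfP Z) (SGA6.perfP X) hj).range
  let R : X.Modules → Prop := fun M => DCoh.IsPerfect (DCoh.inD X M) ∧ KZero.clTr (SGA6.perfP X) (DCoh.inD X M) ∈ G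
  have hR : DevClass R :=
    { iso := fun e h => ⟨PCTriangle.perfect_iso ((DerivedCategory.singleFunctor X.Modules 0).mapIso e) h.1,
        cl_iso' ((DerivedCategory.singleFunctor X.Modules 0).mapIso e) h.1 ▸ h.2⟩
      zero := fun M hM =>
        have h0 : IsZero (DCoh.inD X M) := (DerivedCategory.singleFunctor X.Modules 0).map_isZero hM
        ⟨Dual22Lib.PerfLift.isPerfect_isZero h0, by rw [cl_isZero' h0]; exact G.zero_mem⟩
      ses := fun S hS _ _ _ => by
        have hT := hS.singleTriangle_distinguished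
        obtain ⟨p3, p2, p1⟩ := PCTriangle.perfect_two_out_of_three hT
        refine ⟨fun a b => ?_, fun a c => ?_, fun b c => ?_⟩
        · have c := p3 a.1 b.1
          have e := KPerfPn28.cl_rel (P := SGA6.perfP X) hT a.1 b.1 c
          exact ⟨c, (G.add_mem_cancel_left a.2).1 (e ▸ b.2)⟩
        · have b := p2 a.1 c.1
          have e := KPerfPn28.cl_rel (P := SGA6.perfP X) hT a.1 b c.1
          exact ⟨b, e.symm ▸ G.add_mem a.2 c.2⟩
        · have a := p1 b.1 c.1
          have e := KPerfPn28.cl_rel (P := SGA6.perfP X) hT a b.1 c.1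
          exact ⟨a, (G.add_mem_cancel_right c.2).1 (e ▸ b.2)⟩ }
  refine KTop28.mem_of_points hR (Set.range j) (fun y hy => ?_) F hF hFS
  let z := (IntMult.ptIdeal y).subschemeι
  have hle : j.ker ≤ z.ker := by
    rw [Scheme.IdealSheafData.ker_subschemeι]
    refine Scheme.IdealSheafData.le_support_iff_le_vanishingIdeal.1 ?_
    intro x hx
    exact j.range_subset_ker_support (hy hx)
  let l := IsClosedImmersion.lift j z hle
  have hl : l ≫ j = z := IsClosedImmersion.lift_fac _ _ _
  haveI : IsClosedImmersion l :=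
    haveI : IsClosedImmersion (l ≫ j) := by rw [hl]; infer_instance
    IsClosedImmersion.of_comp l j
  haveI : IsLocallyNoetherian (IntMult.ptIdeal y).subscheme := LocallyOfFiniteType.isLocallyNoetherian z
  let M := (Scheme.Modules.pushforward l).obj (Coh.structureModule (IntMult.ptIdeal y).subscheme)
  have hM : DCoh.IsPerfect (DCoh.inD Z M) := KZeroLib.isPerfect_inD_of_isCoh hreg M
    (Coherent.isCoh_push_finite l (Coherent.isCoh_structureModule _))
  let e : (Scheme.Modules.pushforward j).mapDerivedCategory.obj (DCoh.inD Z M) ≅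
      DCoh.inD X (CycLib28.InterSheaf.pointSheaf y) :=
    ((Scheme.Modules.pushforward j).mapDerivedCategorySingleFunctor 0).app M ≪≫
      (DerivedCategory.singleFunctor X.Modules 0).mapIso
        ((Scheme.Modules.pushforwardComp l j).app _ ≪≫ (Scheme.Modules.pushforwardCongr hl).app _)
  refine ⟨PCTriangle.perfect_iso e (hj _ hM), ?_⟩
  rw [← cl_iso' e (hj _ hM)]
  exact ⟨KZero.clTr (SGA6.perfP Z) (DCoh.inD Z M), KPerfPn28.mapTr_cl _ hj hM⟩

/-- Perfect objects with cohomology supported on a regular closed subscheme have class in the image. -/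
theorem supported_mem (hreg : ∀ z : Z, IsRegularLocalRing (Z.presheaf.stalk z))
    [PreservesFiniteLimits (Scheme.Modules.pushforward j)] [PreservesFiniteColimits (Scheme.Modules.pushforward j)]
    (hj : ∀ K : DCoh.D Z, DCoh.IsPerfect K → DCoh.IsPerfect ((Scheme.Modules.pushforward j).mapDerivedCategory.obj K))
    {C : DCoh.D X} (hC : DCoh.IsPerfect C) (hsupp : ∀ i : ℤ, CohB1.support (DCoh.HD C i) ⊆ Set.range j) :
    KZero.clTr (SGA6.perfP X) C ∈
      (SGA6.mapTr ((Scheme.Modules.pushforward j).mapDerivedCategory) (SGA6.perfP Z) (SGA6.perfP X) hj).range := by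
  obtain ⟨hc, a, b, ha, hb⟩ := KZeroLib.hd_of_perfect hC
  let P := KZeroLib.cohSupp X (Set.range j)
  have hB : KZeroLib.BddWith P C := ⟨fun i => ⟨hc i, hsupp i⟩, a, b, ha, hb⟩
  let G := (SGA6.mapTr ((Scheme.Modules.pushforward j).mapDerivedCategory) (SGA6.perfP Z) (SGA6.perfP X) hj).range
  refine (KZeroLib.bdd_induction (P := P)
    (R := fun L => DCoh.IsPerfect L ∧ KZero.clTr (SGA6.perfP X) L ∈ G)
    (fun e h => ⟨PCTriangle.perfect_iso e h.1, cl_iso' e h.1 ▸ h.2⟩) (fun T hT h₁ h₃ => ?_) (fun M hM n => ?_)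
    (b - a).toNat a C hB ha
    (DerivedCategory.TStructure.t.isLE_of_le C b (a + ((b - a).toNat : ℤ)) (by omega))).2
  · have h₂ := (PCTriangle.perfect_two_out_of_three hT).2.1 h₁.1 h₃.1
    exact ⟨h₂, by rw [KPerfPn28.cl_rel (P := SGA6.perfP X) hT h₁.1 h₂ h₃.1]; exact G.add_mem h₁.2 h₃.2⟩
  · obtain ⟨hp, hm⟩ := single_mem j hreg hj M hM.1 hM.2
    let e := ((DerivedCategory.singleFunctors X.Modules).shiftIso (-n) n 0 (by omega)).app M
    exact ⟨PCTriangle.perfect_iso e (PCTriangle.perfect_shift hp (-n)),
      cl_iso' e (PCTriangle.perfect_shift hp (-n)) ▸ cl_shift_mem G hp hm (-n)⟩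

end Groth.Agent.KBlow28
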