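import Groth.Agent.KBlow28.PushPull
import Groth.Agent.KoszPn17.TwistGen
import Groth.Agent.BoxRes17.Envelope
import Groth.Agent.Resolution28.Basic
import Groth.Agent.S1037
import Groth.Agent.KPerfPn28.CohFree

/-!
# `K₀` of bundles and `K₀` of perfect objects
-/

set_option autoImplicit false
set_option linter.style.haveILetI false
set_option backward.isDefEq.respectTransparency false
set_option maxHeartbeats 800000

universe u

open CategoryTheory CategoryTheory.Limits CategoryTheory.Pretriangulated AlgebraicGeometry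
open Groth.Agent.Coherent Groth.Agent.DCat

attribute [local instance] HasDerivedCategory.standard
attribute [-instance] Int.instConditionallyCompleteLinearOrder

noncomputable section

namespace Groth.Agent.KBlow28

variable {X : Scheme.{u}}

/-- The class of a bundle. -/
abbrev clV (M : X.Modules) : SGA6.Kvb X := KZero.clSub (fun M : X.Modules => FlatMod.IsFinLocFree M) M

theorem clV_ses {S : ShortComplex X.Modules} (hS : S.ShortExact) (h₁ : FlatMod.IsFinLocFree S.X₁)
    (h₂ : FlatMod.IsFinLocFree S.X₂) (h₃ : FlatMod.IsFinLocFree S.X₃) : clV S.X₂ = clV S.X₁ + clV S.X₃ :=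
  Resolution28.clSub_rel (P := fun M : X.Modules => FlatMod.IsFinLocFree M) hS h₁ h₂ h₃

theorem clV_isZero {M : X.Modules} (h : IsZero M) : clV M = 0 := by
  have hM : FlatMod.IsFinLocFree M := PerfTensor.isFinLocFree_of_isZero h
  have hS : (ShortComplex.mk (𝟙 M) (0 : M ⟶ M) comp_zero).ShortExact :=
    ShortComplex.ShortExact.mk' (ShortComplex.exact_of_isZero_X₂ _ h) inferInstance
      ⟨fun _ _ _ => h.eq_of_src _ _⟩
  exact left_eq_add.1 (clV_ses hS hM hM hM)

theorem clV_iso {M N : X.Modules} (e : M ≅ N) (hM : FlatMod.IsFinLocFree M) : clV M = clV N := by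
  obtain ⟨W, hW⟩ := HasZeroObject.zero (C := X.Modules)
  have hS : (ShortComplex.mk e.hom (0 : N ⟶ W) comp_zero).ShortExact :=
    ShortComplex.ShortExact.mk' ((ShortComplex.exact_iff_epi _ rfl).2 inferInstance) inferInstance
      ⟨fun _ _ _ => hW.eq_of_src _ _⟩
  have h := clV_ses hS hM (PerfTensor.isFinLocFree_of_iso e hM) (PerfTensor.isFinLocFree_of_isZero hW)
  change clV N = clV M + clV W at h
  rw [h, clV_isZero hW, add_zero]

theorem clV_biprod {M N : X.Modules} (hM : FlatMod.IsFinLocFree M) (hN : FlatMod.IsFinLocFree N) :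
    clV (M ⊞ N) = clV M + clV N :=
  clV_ses (ShortComplex.Splitting.ofHasBinaryBiproduct M N).shortExact hM (BoxRes17.isFinLocFree_biprod hM hN) hN

/-- The signs of the Euler characteristic. -/
def sgn (i : ℤ) : ℤ := (i.negOnePow : ℤ)

/-- The Euler characteristic of a complex. -/
def chiV (E : CochainComplex X.Modules ℤ) : SGA6.Kvb X := ∑ᶠ i : ℤ, sgn i • clV (E.X i)

theorem finite_support {E : CochainComplex X.Modules ℤ} (hE : DCoh.IsStrictlyPerfect E) :
    (Function.support fun i : ℤ => sgn i • clV (E.X i)).Finite := by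
  obtain ⟨⟨a, b, hab⟩, -⟩ := hE
  refine (Set.finite_Icc a b).subset fun i hi => ?_
  by_contra h
  rw [Set.mem_Icc, not_and_or, not_le, not_le] at h
  exact hi (show sgn i • clV (E.X i) = 0 by rw [clV_isZero (hab i h), smul_zero])

theorem sgn_succ (i : ℤ) : sgn (i + 1) = - sgn i := by simp [sgn, Int.negOnePow_succ]

/-- An acyclic complex of bundles has vanishing Euler characteristic. -/
theorem chiV_acyclic {E : CochainComplex X.Modules ℤ} (hE : DCoh.IsStrictlyPerfect E)
    (hac : ∀ i, E.ExactAt i) : chiV E = 0 := by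
  obtain ⟨⟨a, b, hab⟩, hf⟩ := hE
  let K : ℤ → X.Modules := fun i => kernel (E.d i (i + 1))
  let p : ∀ i : ℤ, E.X i ⟶ K (i + 1) := fun i => kernel.lift _ (E.d i (i + 1)) (E.d_comp_d _ _ _)
  have hp : ∀ i : ℤ, (ShortComplex.mk (kernel.ι (E.d i (i + 1))) (p i) (by
      rw [← cancel_mono (kernel.ι (E.d (i + 1) (i + 1 + 1)))]; simp [p])).ShortExact := fun i => by
    have hex : (ShortComplex.mk (E.d i (i + 1)) (E.d (i + 1) (i + 1 + 1)) (E.d_comp_d _ _ _)).Exact :=
      (E.exactAt_iff' i (i + 1) (i + 1 + 1) (by simp) (by simp)).1 (hac (i + 1))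
    haveI : Epi (p i) := (ShortComplex.exact_iff_epi_kernel_lift _).1 hex
    refine ShortComplex.ShortExact.mk' (ShortComplex.exact_of_f_is_kernel _ ?_) inferInstance ‹_›
    refine KernelFork.IsLimit.ofι' (kernel.ι (E.d i (i + 1))) _ fun k hk => ⟨kernel.lift _ k ?_, kernel.lift_ι _ _ _⟩
    change k ≫ p i = 0 at hk
    rw [← kernel.lift_ι (E.d (i + 1) (i + 1 + 1)) (E.d i (i + 1)) (E.d_comp_d _ _ _), ← Category.assoc]
    show (k ≫ p i) ≫ _ = 0
    rw [hk, zero_comp]
  have hK : ∀ (m : ℕ) (i : ℤ), b < i + m → FlatMod.IsFinLocFree (K i) := by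
    intro m
    induction m with
    | zero =>
      intro i hi
      exact PerfTensor.isFinLocFree_of_isZero (IsZero.of_mono (kernel.ι _) (hab i (Or.inr (by simpa using hi))))
    | succ m ih =>
      intro i hi
      haveI := (hp i).epi_g
      have hg := KoszPn17.isFinLocFree_kernel (p i) (hf i) (ih (i + 1) (by push_cast at hi ⊢; omega))
      exact PerfTensor.isFinLocFree_of_iso ((kernelIsKernel (p i)).conePointUniqueUpToIso (hp i).fIsKernel) hg
  have hK' : ∀ i, FlatMod.IsFinLocFree (K i) := fun i => hK (b + 1 - i).toNat i (by omega)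
  have he : ∀ i, clV (E.X i) = clV (K i) + clV (K (i + 1)) := fun i => clV_ses (hp i) (hK' i) (hf i) (hK' (i + 1))
  have hu : (Function.support fun i => sgn i • clV (K i)).Finite := by
    refine (Set.finite_Icc a b).subset fun i hi => ?_
    by_contra h
    rw [Set.mem_Icc, not_and_or, not_le, not_le] at h
    exact hi (show sgn i • clV (K i) = 0 by
      rw [clV_isZero (IsZero.of_mono (kernel.ι _) (hab i h)), smul_zero])
  have hu' : (Function.support fun i => sgn (i + 1) • clV (K (i + 1))).Finite :=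
    hu.preimage (f := fun i => i + 1) (fun a _ b _ h => add_right_cancel h)
  rw [chiV, finsum_congr (g := fun i => sgn i • clV (K i) - sgn (i + 1) • clV (K (i + 1))) fun i => by
      rw [he i, smul_add, sgn_succ, neg_smul, sub_neg_eq_add],
    finsum_sub_distrib hu hu', sub_eq_zero]
  exact (finsum_comp_equiv (Equiv.addRight (1 : ℤ)) (f := fun i => sgn i • clV (K i))).symm

/-- Mapping cones of strictly perfect complexes. -/
theorem cone_sp {G F : CochainComplex X.Modules ℤ} (φ : G ⟶ F) (hG : DCoh.IsStrictlyPerfect G)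
    (hF : DCoh.IsStrictlyPerfect F) :
    DCoh.IsStrictlyPerfect (CochainComplex.mappingCone φ) ∧
      chiV (CochainComplex.mappingCone φ) = chiV F - chiV G := by
  let e : ∀ i, (CochainComplex.mappingCone φ).X i ≅ G.X (i + 1) ⊞ F.X i := fun i =>
    HomologicalComplex.homotopyCofiber.XIsoBiprod φ i (i + 1) (by simp)
  have hfree : ∀ i, FlatMod.IsFinLocFree ((CochainComplex.mappingCone φ).X i) := fun i =>
    PerfTensor.isFinLocFree_of_iso (e i).symm (BoxRes17.isFinLocFree_biprod (hG.2 _) (hF.2 i))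
  have hsp : DCoh.IsStrictlyPerfect (CochainComplex.mappingCone φ) := by
    obtain ⟨a, b, hab⟩ := hG.1
    obtain ⟨c, d, hcd⟩ := hF.1
    refine ⟨⟨min (a - 1) c, max b d, fun i hi => IsZero.of_iso ?_ (e i)⟩, hfree⟩
    exact (biprod_isZero_iff _ _).2 ⟨hab _ (by omega), hcd _ (by omega)⟩
  refine ⟨hsp, ?_⟩
  have hG' : (Function.support fun i => sgn (i + 1) • clV (G.X (i + 1))).Finite :=
    (finite_support hG).preimage (f := fun i => i + 1) (fun a _ b _ h => add_right_cancel h)
  rw [chiV, finsum_congr (g := fun i => sgn i • clV (F.X i) - sgn (i + 1) • clV (G.X (i + 1))) fun i => by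
      rw [clV_iso (e i) (hfree i), clV_biprod (hG.2 _) (hF.2 i), smul_add, sgn_succ, neg_smul, sub_neg_eq_add,
        add_comm],
    finsum_sub_distrib (finite_support hF) hG',
    show (∑ᶠ i, sgn (i + 1) • clV (G.X (i + 1))) = chiV G from
      finsum_comp_equiv (Equiv.addRight (1 : ℤ)) (f := fun i => sgn i • clV (G.X i))]
  rfl

theorem chiV_qis {G F : CochainComplex X.Modules ℤ} (φ : G ⟶ F) [QuasiIso φ] (hG : DCoh.IsStrictlyPerfect G)
    (hF : DCoh.IsStrictlyPerfect F) : chiV F = chiV G := by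
  obtain ⟨hsp, he⟩ := cone_sp φ hG hF
  have hT := DerivedCategory.mappingCone_triangle_distinguished φ
  haveI : IsIso (DerivedCategory.Q.map φ) := (DerivedCategory.isIso_Q_map_iff_quasiIso _ _).2 inferInstance
  have hz : IsZero (DerivedCategory.Q.obj (CochainComplex.mappingCone φ)) :=
    (Triangle.isZero₃_iff_isIso₁ _ hT).2 (inferInstanceAs (IsIso (DerivedCategory.Q.map φ)))
  rw [chiV_acyclic hsp fun i => ?_] at he
  · exact sub_eq_zero.1 he.symm
  · rw [HomologicalComplex.exactAt_iff_isZero_homology]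
    exact ((DerivedCategory.homologyFunctor _ i).map_isZero hz).of_iso
      ((DerivedCategory.homologyFunctorFactors _ i).app _).symm

variable [CompactSpace X] [QuasiSeparatedSpace X] (hX : PerfAux.HasResolutionProperty X)

include hX in
theorem chiV_iso {E F : CochainComplex X.Modules ℤ} (hE : DCoh.IsStrictlyPerfect E)
    (hF : DCoh.IsStrictlyPerfect F) (e : DCoh.toD X E ≅ DCoh.toD X F) : chiV E = chiV F := by
  obtain ⟨G, g, h, hG, hg, hgh⟩ := S1037.result X hX E F hE hF e.hom
  haveI : IsIso (DerivedCategory.Q.map g) := (DerivedCategory.isIso_Q_map_iff_quasiIso _ _).2 hg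
  haveI : QuasiIso h := by
    rw [← DerivedCategory.isIso_Q_map_iff_quasiIso, ← hgh]
    infer_instance
  rw [chiV_qis g hG hE, chiV_qis h hG hF]

include hX in
/-- The Euler characteristic as a homomorphism. -/
theorem exists_chiHom : ∃ ψ : SGA6.Kperf X →+ SGA6.Kvb X, ∀ E : CochainComplex X.Modules ℤ,
    DCoh.IsStrictlyPerfect E → DCoh.IsPerfect (DCoh.toD X E) →
      ψ (KZero.clTr (SGA6.perfP X) (DCoh.toD X E)) = chiV E := by
  have hex : ∀ K : {K : DCoh.D X // DCoh.IsPerfect K}, ∃ E : CochainComplex X.Modules ℤ,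
      DCoh.IsStrictlyPerfect E ∧ Nonempty (DCoh.toD X E ≅ K.1) :=
    fun K => DQCoh.ResPropD17.exists_strictlyPerfect hX K.2
  choose rep hrep hiso using hex
  let ψ₀ : FreeAbelianGroup {K : DCoh.D X // DCoh.IsPerfect K} →+ SGA6.Kvb X :=
    FreeAbelianGroup.lift fun K => chiV (rep K)
  have hψ : KZero.relTr (SGA6.perfP X) ≤ ψ₀.ker := by
    rw [KZero.relTr, AddSubgroup.closure_le]
    rintro _ ⟨T, h₁, h₂, h₃, hT, rfl⟩
    rw [SetLike.mem_coe, AddMonoidHom.mem_ker, map_sub, map_sub, FreeAbelianGroup.lift_apply_of,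
      FreeAbelianGroup.lift_apply_of, FreeAbelianGroup.lift_apply_of]
    obtain ⟨e₁⟩ := hiso ⟨T.obj₁, h₁⟩
    obtain ⟨e₂⟩ := hiso ⟨T.obj₂, h₂⟩
    obtain ⟨e₃⟩ := hiso ⟨T.obj₃, h₃⟩
    obtain ⟨G, g, h, hG, hg, hgh⟩ := S1037.result X hX _ _ (hrep ⟨T.obj₁, h₁⟩) (hrep ⟨T.obj₂, h₂⟩)
      (e₁.hom ≫ T.mor₁ ≫ e₂.inv)
    obtain ⟨hsp, hcone⟩ := cone_sp h hG (hrep ⟨T.obj₂, h₂⟩)
    haveI : IsIso (DerivedCategory.Q.map g) := (DerivedCategory.isIso_Q_map_iff_quasiIso _ _).2 hg
    have hT' := DerivedCategory.mappingCone_triangle_distinguished h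
    have hsq : DerivedCategory.Q.map h ≫ e₂.hom = (DerivedCategory.Q.map g ≫ e₁.hom) ≫ T.mor₁ := by
      rw [← hgh]
      simp only [Category.assoc, e₂.inv_hom_id]
      exact (congrArg (fun z => DerivedCategory.Q.map g ≫ e₁.hom ≫ z) (Category.comp_id T.mor₁))
    obtain ⟨c, hc₁, hc₂⟩ := complete_distinguished_triangle_morphism _ _ hT' hT
      (DerivedCategory.Q.map g ≫ e₁.hom) e₂.hom hsq
    let tm : DerivedCategory.Q.mapTriangle.obj (CochainComplex.mappingCone.triangle h) ⟶ T :=
      { hom₁ := DerivedCategory.Q.map g ≫ e₁.hom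
        hom₂ := e₂.hom
        hom₃ := c
        comm₁ := hsq
        comm₂ := hc₁
        comm₃ := hc₂ }
    have i₁ : IsIso tm.hom₁ := IsIso.comp_isIso' inferInstance inferInstance
    have i₂ : IsIso tm.hom₂ := e₂.isIso_hom
    have hc' : IsIso c := isIso₃_of_isIso₁₂ tm hT' hT i₁ i₂
    have h3 := chiV_iso hX hsp (hrep ⟨T.obj₃, h₃⟩) (@asIso _ _ _ _ c hc' ≪≫ e₃.symm)
    haveI := hg
    rw [← h3, hcone, chiV_qis g hG (hrep _)]
    abel
  refine ⟨QuotientAddGroup.lift _ ψ₀ hψ, fun E hE hp => ?_⟩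
  rw [KZero.clTr, dif_pos hp]
  refine (FreeAbelianGroup.lift_apply_of _ _).trans ?_
  obtain ⟨e⟩ := hiso ⟨DCoh.toD X E, hp⟩
  exact chiV_iso hX (hrep _) hE e

include hX in
/-- Bundles and perfect objects have the same `K₀`. -/
theorem exists_equiv_vect :
    ∃ φ : SGA6.Kvb X ≃+ SGA6.Kperf X, ∀ E : X.Modules, FlatMod.IsFinLocFree E →
      φ (clV E) = KZero.clTr (SGA6.perfP X) (DCoh.inD X E) := by
  obtain ⟨ψ, hψ⟩ := exists_chiHom hX
  let φ₀ : FreeAbelianGroup {M : X.Modules // FlatMod.IsFinLocFree M} →+ SGA6.Kperf X :=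
    FreeAbelianGroup.lift fun M => KZero.clTr (SGA6.perfP X) (DCoh.inD X M.1)
  have hφ₀ : KZero.relSub (fun M : X.Modules => FlatMod.IsFinLocFree M) ≤ φ₀.ker := by
    rw [KZero.relSub, AddSubgroup.closure_le]
    rintro _ ⟨S, h₁, h₂, h₃, hS, rfl⟩
    rw [SetLike.mem_coe, AddMonoidHom.mem_ker, map_sub, map_sub, FreeAbelianGroup.lift_apply_of,
      FreeAbelianGroup.lift_apply_of, FreeAbelianGroup.lift_apply_of]
    have := KPerfPn28.cl_rel (P := SGA6.perfP X) hS.singleTriangle_distinguished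
      (KZeroLib.isPerfect_inD_finLocFree h₁) (KZeroLib.isPerfect_inD_finLocFree h₂)
      (KZeroLib.isPerfect_inD_finLocFree h₃)
    change KZero.clTr (SGA6.perfP X) (DCoh.inD X S.X₂) = _ at this
    rw [this]
    simp [ShortComplex.ShortExact.singleTriangle]
  let φ : SGA6.Kvb X →+ SGA6.Kperf X := QuotientAddGroup.lift _ φ₀ hφ₀
  have hφ : ∀ E : X.Modules, FlatMod.IsFinLocFree E →
      φ (clV E) = KZero.clTr (SGA6.perfP X) (DCoh.inD X E) := fun E hE => by
    rw [clV, KZero.clSub, dif_pos hE]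
    exact FreeAbelianGroup.lift_apply_of (fun M : {M : X.Modules // FlatMod.IsFinLocFree M} =>
      KZero.clTr (SGA6.perfP X) (DCoh.inD X M.1)) ⟨E, hE⟩
  have hleft : ψ.comp φ = AddMonoidHom.id _ := KPerfPn28.hom_ext_sub _ _ fun E hE => by
    show ψ (φ (clV E)) = clV E
    rw [hφ E hE]
    let F := (HomologicalComplex.single X.Modules (ComplexShape.up ℤ) 0).obj E
    have hF : DCoh.IsStrictlyPerfect F := DQCoh.strictlyPerfect_single hE
    let e : DCoh.inD X E ≅ DCoh.toD X F := (DerivedCategory.singleFunctorIsoCompQ X.Modules 0).app E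
    rw [cl_iso' e (KZeroLib.isPerfect_inD_finLocFree hE),
      hψ F hF (PCTriangle.perfect_iso e (KZeroLib.isPerfect_inD_finLocFree hE)), chiV,
      finsum_eq_single _ 0 fun i hi => by
        rw [clV_isZero (HomologicalComplex.isZero_single_obj_X _ _ _ _ hi), smul_zero],
      show sgn 0 = 1 by simp [sgn], one_smul,
      clV_iso (HomologicalComplex.singleObjXSelf (ComplexShape.up ℤ) 0 E) (hF.2 0)]
  refine ⟨AddEquiv.ofBijective φ ⟨Function.LeftInverse.injective (g := ψ) fun x => DFunLike.congr_fun hleft x,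
    fun y => ?_⟩, hφ⟩
  exact mem_of_bundles hX φ.range (fun E hE => ⟨clV E, hφ E hE⟩) y

end Groth.Agent.KBlow28
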